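import Groth.Agent.H02CA.HensApprox.Main
import Mathlib.Algebra.Colimit.DirectLimit

/-!
The direct limit of the henselized stages is the henselian local ring we started with.
-/

set_option autoImplicit false
set_option linter.style.haveILetI false
set_option linter.unusedSectionVars false

universe u

open IsLocalRing

namespace Groth.Agent.H02CA.HensApprox

variable (A : Type u) [CommRing A] [HenselianLocalRing A]

/-- The direct limit. -/
abbrev DL : Type u := DirectLimit (G A) (gf A)

/-- The maps into the limit. -/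
noncomputable abbrev ofG (i : Finset A) : G A i →+* DL A := DirectLimit.Ring.of (G A) (gf A) i

theorem ofG_gf {i j : Finset A} (h : i ≤ j) (x : G A i) : ofG A j (gf A i j h x) = ofG A i x :=
  DirectLimit.Ring.of_f h x

theorem exists_ofG (z : DL A) : ∃ i x, ofG A i x = z := by
  induction z using DirectLimit.induction with | _ i x => exact ⟨i, x, rfl⟩

theorem isUnit_of_isUnit_ofG (i : Finset A) (x : G A i) (hx : IsUnit (ofG A i x)) : IsUnit x := by
  obtain ⟨z, hz⟩ := hx.exists_right_inv
  obtain ⟨j, w, rfl⟩ := exists_ofG A z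
  obtain ⟨k, hik, hjk⟩ := exists_ge_ge i j
  rw [← ofG_gf A hik x, ← ofG_gf A hjk w, ← map_mul] at hz
  obtain ⟨l, hkl, hl⟩ := (DirectLimit.exists_eq_one (f := gf A) (⟨k, _⟩ : Σ i, G A i)).1 hz
  haveI := isLocalHom_gf A hkl
  haveI := isLocalHom_gf A hik
  rw [map_mul] at hl
  exact IsUnit.of_map (gf A i k hik) x (IsUnit.of_map (gf A k l hkl) _ (IsUnit.of_mul_eq_one _ hl))

instance nontrivial_DL : Nontrivial (DL A) := by
  refine ⟨⟨0, 1, fun h => ?_⟩⟩
  exact not_isUnit_zero (isUnit_of_isUnit_ofG A ∅ (0 : G A ∅) (by rw [map_zero, h]; exact isUnit_one))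

instance isLocalRing_DL : IsLocalRing (DL A) := IsLocalRing.of_isUnit_or_isUnit_one_sub_self fun a => by
  obtain ⟨i, x, rfl⟩ := exists_ofG A a
  exact (IsLocalRing.isUnit_or_isUnit_one_sub_self x).imp (·.map (ofG A i))
    fun h => by rw [← map_one (ofG A i), ← map_sub]; exact h.map (ofG A i)

theorem isLocalHom_ofG (i : Finset A) : IsLocalHom (ofG A i) := ⟨isUnit_of_isUnit_ofG A i⟩

instance henselianLocalRing_DL : HenselianLocalRing (DL A) := by
  haveI := fun i => isLocalHom_ofG A i
  have hmax : (⨆ i, (maximalIdeal (G A i)).map (ofG A i)) = maximalIdeal (DL A) := by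
    refine le_antisymm (iSup_le fun i => map_maximalIdeal_le (ofG A i)) fun a ha => ?_
    obtain ⟨i, x, rfl⟩ := exists_ofG A a
    exact le_iSup (fun i => (maximalIdeal (G A i)).map (ofG A i)) i
      (Ideal.mem_map_of_mem _ fun hu => ha (hu.map _))
  have hH : HenselianRing (DL A) (maximalIdeal (DL A)) := by
    rw [← hmax]
    refine H9Hens.henselianRing_of_jointly_surjective (ofG A) _ (fun i => inferInstance)
      (exists_ofG A) fun i j => ?_
    obtain ⟨k, hik, hjk⟩ := exists_ge_ge i j
    have := isLocalHom_gf A hik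
    have := isLocalHom_gf A hjk
    exact ⟨k, gf A i k hik, gf A j k hjk, RingHom.ext fun x => ofG_gf A hik x,
      RingHom.ext fun x => ofG_gf A hjk x, map_maximalIdeal_le _, map_maximalIdeal_le _⟩
  exact H9Hens.henselianLocalRing_of_henselianRing

/-- The map to `A`. -/
noncomputable def toA : DL A →+* A :=
  DirectLimit.Ring.lift (G A) (gf A) A (gA A) fun _ _ h x => RingHom.congr_fun (gA_gf A h) x

theorem toA_ofG (i : Finset A) (x : G A i) : toA A (ofG A i x) = gA A i x := rfl

/-- The elements of the finitely generated subrings in the limit. -/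
noncomputable def c (i : Finset A) : R A i →+* DL A :=
  (ofG A i).comp ((algebraMap (L A i) (G A i)).comp (algebraMap (R A i) (L A i)))

theorem c_incl {i j : Finset A} (h : i ≤ j) (x : R A i) : c A j (incl A h x) = c A i x := by
  have h1 := RingHom.congr_fun (gf_comp A h) (algebraMap (R A i) (L A i) x)
  rw [RingHom.comp_apply, RingHom.comp_apply, lf_algebraMap] at h1
  exact (congrArg (ofG A j) h1).symm.trans (ofG_gf A h _)

theorem toA_c (i : Finset A) (x : R A i) : toA A (c A i x) = x := by
  have h1 := RingHom.congr_fun (gA_comp A i) (algebraMap (R A i) (L A i) x)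
  rw [RingHom.comp_apply, lA_algebraMap] at h1
  exact (toA_ofG A i _).trans h1

/-- The underlying function of the section. -/
noncomputable def secFun (a : A) : DL A :=
  c A {a} ⟨a, Subring.subset_closure (Finset.mem_coe.2 (Finset.mem_singleton_self a))⟩

theorem secFun_eq (i : Finset A) (x : R A i) : secFun A (x : A) = c A i x := by
  obtain ⟨k, h₁, h₂⟩ := exists_ge_ge ({(x : A)} : Finset A) i
  rw [secFun, ← c_incl A h₁, ← c_incl A h₂]
  exact congrArg (c A k) (Subtype.ext ((Subring.coe_inclusion _ _).trans (Subring.coe_inclusion _ x).symm))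

/-- The section. -/
noncomputable def sec : A →+* DL A where
  toFun := secFun A
  map_one' := by
    have h := secFun_eq A ∅ 1
    rwa [OneMemClass.coe_one, map_one] at h
  map_zero' := by
    have h := secFun_eq A ∅ 0
    rwa [ZeroMemClass.coe_zero, map_zero] at h
  map_add' a b := by
    obtain ⟨k, h₁, h₂⟩ := exists_ge_ge ({a} : Finset A) {b}
    let x : R A k := ⟨a, Subring.subset_closure (h₁ (Finset.mem_singleton_self a))⟩
    let y : R A k := ⟨b, Subring.subset_closure (h₂ (Finset.mem_singleton_self b))⟩
    show secFun A ((x + y : R A k) : A) = secFun A (x : A) + secFun A (y : A)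
    rw [secFun_eq, secFun_eq, secFun_eq, map_add]
  map_mul' a b := by
    obtain ⟨k, h₁, h₂⟩ := exists_ge_ge ({a} : Finset A) {b}
    let x : R A k := ⟨a, Subring.subset_closure (h₁ (Finset.mem_singleton_self a))⟩
    let y : R A k := ⟨b, Subring.subset_closure (h₂ (Finset.mem_singleton_self b))⟩
    show secFun A ((x * y : R A k) : A) = secFun A (x : A) * secFun A (y : A)
    rw [secFun_eq, secFun_eq, secFun_eq, map_mul]

theorem sec_comp_toA : (sec A).comp (toA A) = RingHom.id (DL A) := by
  refine DirectLimit.Ring.hom_ext (DL A) fun i => ?_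
  haveI := isLocalHom_ofG A i
  have hl : IsLocalHom ((ofG A i).comp (algebraMap (L A i) (G A i))) := inferInstance
  rw [RingHom.id_comp]
  refine ((isHens A i).universal (DL A) _ hl).unique ?_ rfl
  refine IsLocalization.ringHom_ext (p A i).primeCompl (RingHom.ext fun x => ?_)
  exact (congrArg (sec A) (toA_c A i x)).trans (secFun_eq A i x)

/-- The isomorphism. -/
noncomputable def equiv : A ≃+* DL A :=
  RingEquiv.ofRingHom (sec A) (toA A) (sec_comp_toA A)
    (RingHom.ext fun a => toA_c A {a} ⟨a, Subring.subset_closure (Finset.mem_coe.2 (Finset.mem_singleton_self a))⟩)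

end Groth.Agent.H02CA.HensApprox
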