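import Groth.Agent.H05EGA4.GRingPoly
import Groth.Agent.H9Hens.LocalHens
import Groth.Agent.H9Hens.Limits
import Groth.Agent.H9Hens.Local
import Groth.Agent.S2653
import Groth.Agent.S2045
import Groth.Agent.S0507

/-!
A henselian local ring is a directed colimit of henselian local G-rings.
-/

set_option autoImplicit false
set_option linter.style.haveILetI false
set_option linter.unusedSectionVars false

universe u

open IsLocalRing

namespace Groth.Agent.H02CA.HensApprox

/-- The integers, lifted, form a G-ring. -/
theorem isGRing_int : CAlg.IsGRing (ULift.{u} ℤ) := by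
  haveI : IsDomain (ULift.{u} ℤ) := (ULift.ringEquiv (R := ℤ)).symm.isDomain_iff.mp inferInstance
  haveI : IsPrincipalIdealRing (ULift.{u} ℤ) :=
    IsPrincipalIdealRing.of_surjective (ULift.ringEquiv (R := ℤ)).symm.toRingHom (RingEquiv.surjective _)
  haveI : IsDedekindDomain (ULift.{u} ℤ) := inferInstance
  haveI : CharZero (ULift.{u} ℤ) :=
    charZero_of_injective_ringHom (f := (ULift.ringEquiv (R := ℤ)).symm.toRingHom) (RingEquiv.injective _)
  exact (S2653.result (ULift.{u} ℤ)).2.2.1

variable (A : Type u) [CommRing A]

/-- The subring generated by a finite set. -/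
abbrev R (i : Finset A) : Subring A := Subring.closure (i : Set A)

theorem isGRing_R (i : Finset A) : CAlg.IsGRing (R A i) := by
  let φ : MvPolynomial i (ULift.{u} ℤ) →+* R A i :=
    MvPolynomial.eval₂Hom ((Int.castRingHom _).comp (ULift.ringEquiv (R := ℤ)).toRingHom)
      fun x => ⟨x.1, Subring.subset_closure x.2⟩
  have hφ : Function.Surjective φ := by
    intro y
    have h : R A i ≤ φ.range.map (R A i).subtype := by
      rw [Subring.closure_le]
      intro x hx
      exact ⟨⟨x, Subring.subset_closure hx⟩, ⟨MvPolynomial.X ⟨x, hx⟩, by simp [φ]⟩, rfl⟩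
    obtain ⟨z, ⟨w, hw⟩, hz⟩ := h y.2
    exact ⟨w, hw.trans (Subtype.ext hz)⟩
  exact H05EGA4.isGRing_of_surjective φ hφ
    (H05EGA4.isGRing_of_finiteType (R := ULift.{u} ℤ) isGRing_int)

variable [HenselianLocalRing A]

/-- The prime below the maximal ideal. -/
abbrev p (i : Finset A) : Ideal (R A i) := (maximalIdeal A).comap (R A i).subtype

/-- The local ring. -/
abbrev L (i : Finset A) : Type u := Localization.AtPrime (p A i)

noncomputable def lA (i : Finset A) : L A i →+* A :=
  IsLocalization.lift (M := (p A i).primeCompl) (g := (R A i).subtype) fun y => by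
    by_contra h
    exact y.2 (show (y : R A i) ∈ p A i from (mem_maximalIdeal _).2 h)

theorem lA_algebraMap (i : Finset A) (x : R A i) : lA A i (algebraMap _ (L A i) x) = x :=
  IsLocalization.lift_eq _ x

theorem isLocalHom_lA (i : Finset A) : IsLocalHom (lA A i) where
  map_nonunit z hz := by
    obtain ⟨⟨a, s⟩, rfl⟩ := IsLocalization.mk'_surjective (p A i).primeCompl z
    have ha : IsUnit ((R A i).subtype a) := by
      have h := IsLocalization.mk'_spec (L A i) a s
      have h2 := congrArg (lA A i) h
      rw [map_mul, lA_algebraMap, lA_algebraMap] at h2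
      have hs : IsUnit ((s : R A i) : A) := by
        by_contra h
        exact s.2 (show (s : R A i) ∈ p A i from (mem_maximalIdeal _).2 h)
      show IsUnit ((a : R A i) : A)
      rw [← h2]
      exact hz.mul hs
    refine (IsLocalization.AtPrime.isUnit_mk'_iff (L A i) (p A i) a s).2 ?_
    show a ∉ p A i
    intro hmem
    exact (mem_maximalIdeal _).1 hmem ha

/-- A henselization. -/
structure Stage (i : Finset A) where
  /-- the ring -/
  S : Type u
  [inst : CommRing S]
  [loc : IsLocalRing S]
  [alg : Algebra (L A i) S]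
  [hom : IsLocalHom (algebraMap (L A i) S)]
  hens : Hensel.IsHenselization (L A i) S

attribute [instance] Stage.inst Stage.loc Stage.alg Stage.hom

theorem nonempty_stage (i : Finset A) : Nonempty (Stage A i) := by
  obtain ⟨S, _, _, _, _, π, -, hS⟩ := H9Hens.exists_isHenselization_colim (L A i)
  exact ⟨⟨S, hS⟩⟩

/-- The chosen henselizations. -/
noncomputable def stage (i : Finset A) : Stage A i := Classical.choice (nonempty_stage A i)

/-- The stages. -/
abbrev G (i : Finset A) : Type u := (stage A i).S

instance isHens (i : Finset A) : Hensel.IsHenselization (L A i) (G A i) := (stage A i).hens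

instance (i : Finset A) : HenselianLocalRing (G A i) := (isHens A i).henselian

theorem isGRing_G (i : Finset A) : CAlg.IsGRing (G A i) := by
  have h := H05EGA4.isGRing_of_isLocalization (S := L A i) (p A i).primeCompl (isGRing_R A i)
  haveI : IsNoetherianRing (L A i) := h.1
  exact S2045.result (R := L A i) h

/-- The map to `A`. -/
noncomputable def gA (i : Finset A) : G A i →+* A :=
  ((isHens A i).universal A (lA A i) (isLocalHom_lA A i)).exists.choose

theorem gA_comp (i : Finset A) : (gA A i).comp (algebraMap (L A i) (G A i)) = lA A i :=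
  ((isHens A i).universal A (lA A i) (isLocalHom_lA A i)).exists.choose_spec

variable {i j k : Finset A}

/-- Inclusion of subrings. -/
abbrev incl (h : i ≤ j) : R A i →+* R A j :=
  Subring.inclusion (Subring.closure_mono (Finset.coe_subset.2 h))

theorem p_eq (h : i ≤ j) : p A i = (p A j).comap (incl A h) :=
  Ideal.ext fun x => by
    simp only [p, Ideal.mem_comap, Subring.coe_subtype, incl, Subring.coe_inclusion]

theorem le_comap_incl (h : i ≤ j) :
    (p A i).primeCompl ≤ Submonoid.comap (incl A h) (p A j).primeCompl :=
  by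
  intro x hx
  rw [Submonoid.mem_comap]
  intro h'
  apply hx
  rw [p_eq A h]
  exact Ideal.mem_comap.2 h'

/-- Transition maps of the local rings. -/
noncomputable def lf (h : i ≤ j) : L A i →+* L A j :=
  IsLocalization.map (L A j) (incl A h) (le_comap_incl A h)

theorem lf_algebraMap (h : i ≤ j) (x : R A i) :
    lf A h (algebraMap _ _ x) = algebraMap _ (L A j) (incl A h x) :=
  IsLocalization.map_eq _ x

theorem incl_self (x : R A i) : incl A (le_refl i) x = x :=
  Subtype.ext (Subring.coe_inclusion _ x)

theorem incl_incl (hij : i ≤ j) (hjk : j ≤ k) (x : R A i) :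
    incl A hjk (incl A hij x) = incl A (hij.trans hjk) x :=
  Subtype.ext ((Subring.coe_inclusion _ _).trans
    ((Subring.coe_inclusion _ x).trans (Subring.coe_inclusion _ x).symm))

theorem lf_self : lf A (le_refl i) = RingHom.id (L A i) := by
  refine IsLocalization.ringHom_ext (p A i).primeCompl (RingHom.ext fun y => ?_)
  rw [RingHom.comp_apply, RingHom.comp_apply, lf_algebraMap, incl_self, RingHom.id_apply]

theorem lf_lf (hij : i ≤ j) (hjk : j ≤ k) : (lf A hjk).comp (lf A hij) = lf A (hij.trans hjk) := by
  refine IsLocalization.ringHom_ext (p A i).primeCompl (RingHom.ext fun y => ?_)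
  rw [RingHom.comp_apply, RingHom.comp_apply, RingHom.comp_apply, lf_algebraMap, lf_algebraMap,
    lf_algebraMap, incl_incl]

theorem lA_lf (h : i ≤ j) : (lA A j).comp (lf A h) = lA A i := by
  refine IsLocalization.ringHom_ext (p A i).primeCompl (RingHom.ext fun y => ?_)
  simp only [RingHom.comp_apply, lA_algebraMap, lf_algebraMap, incl, Subring.coe_inclusion]

theorem isLocalHom_lf (h : i ≤ j) : IsLocalHom ((algebraMap (L A j) (G A j)).comp (lf A h)) := by
  haveI : IsLocalHom ((lA A j).comp (lf A h)) := (lA_lf A h).symm ▸ isLocalHom_lA A i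
  haveI : IsLocalHom (lf A h) := isLocalHom_of_comp (lf A h) (lA A j)
  infer_instance

/-- Transition maps of the stages. -/
noncomputable def gf (i j : Finset A) (h : i ≤ j) : G A i →+* G A j :=
  ((isHens A i).universal (G A j) _ (isLocalHom_lf A h)).exists.choose

theorem gf_comp (h : i ≤ j) :
    (gf A i j h).comp (algebraMap (L A i) (G A i)) = (algebraMap (L A j) (G A j)).comp (lf A h) :=
  ((isHens A i).universal (G A j) _ (isLocalHom_lf A h)).exists.choose_spec

theorem gf_unique (h : i ≤ j) (g : G A i →+* G A j)
    (hg : g.comp (algebraMap (L A i) (G A i)) = (algebraMap (L A j) (G A j)).comp (lf A h)) :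
    g = gf A i j h :=
  ((isHens A i).universal (G A j) _ (isLocalHom_lf A h)).unique hg (gf_comp A h)

theorem gf_self (i : Finset A) : gf A i i (le_refl i) = RingHom.id (G A i) :=
  (gf_unique A (le_refl i) _ (by rw [lf_self, RingHom.id_comp, RingHom.comp_id])).symm

theorem gf_gf (hij : i ≤ j) (hjk : j ≤ k) :
    (gf A j k hjk).comp (gf A i j hij) = gf A i k (hij.trans hjk) :=
  gf_unique A (hij.trans hjk) _ (by
    rw [RingHom.comp_assoc, gf_comp, ← RingHom.comp_assoc, gf_comp, RingHom.comp_assoc, lf_lf])

instance directedSystem : DirectedSystem (G A) (fun i j h => gf A i j h) where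
  map_self i x := RingHom.congr_fun (gf_self A i) x
  map_map k j i hij hjk x := RingHom.congr_fun (gf_gf A hij hjk) x

theorem gA_gf (h : i ≤ j) : (gA A j).comp (gf A i j h) = gA A i := by
  refine ((isHens A i).universal A (lA A i) (isLocalHom_lA A i)).unique ?_ (gA_comp A i)
  rw [RingHom.comp_assoc, gf_comp, ← RingHom.comp_assoc, gA_comp, lA_lf]

theorem isLocalHom_gA (i : Finset A) : IsLocalHom (gA A i) := by
  have h : (maximalIdeal (G A i)).map (gA A i) ≤ maximalIdeal A := by
    rw [← S0507.result (L A i) (G A i), Ideal.map_map, gA_comp]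
    exact ((local_hom_TFAE (lA A i)).out 0 2).mp (isLocalHom_lA A i)
  exact ((local_hom_TFAE (gA A i)).out 0 2).mpr h

theorem isLocalHom_gf (h : i ≤ j) : IsLocalHom (gf A i j h) := by
  haveI := isLocalHom_gA A i
  haveI : IsLocalHom ((gA A j).comp (gf A i j h)) := (gA_gf A h).symm ▸ isLocalHom_gA A i
  exact isLocalHom_of_comp (gf A i j h) (gA A j)

end Groth.Agent.H02CA.HensApprox
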